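import Groth.Agent.CAlgOdd.AuslanderBuchsbaum
import Groth.Prelude.Def_CAlgX
import Mathlib.LinearAlgebra.Matrix.ToLin
import Mathlib.LinearAlgebra.Matrix.Determinant.Basic
import Mathlib.LinearAlgebra.Dimension.Constructions

/-!
# Exact complexes of free modules over local rings of small depth split
-/

set_option autoImplicit false

universe u

open scoped Matrix
open Groth.Agent.RegLoc6

namespace Groth.Agent.AuditBE

variable {S : Type u} [CommRing S]

/-- The `r × r` minors generate the unit ideal and the larger minors vanish. -/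
def HasSplitRank {a b : ℕ} (M : Matrix (Fin a) (Fin b) S) (r : ℕ) : Prop :=
  CAlgX.minorIdeal M r = ⊤ ∧ ∀ r', r < r' → CAlgX.minorIdeal M r' = ⊥

theorem det_mul_eq_zero {r r' : ℕ} (h : r < r') (U : Matrix (Fin r') (Fin r) S)
    (V : Matrix (Fin r) (Fin r') S) : (U * V).det = 0 := by
  let emb : Fin r → Fin r' := Fin.castLE h.le
  let E : Matrix (Fin r) (Fin r') S := (1 : Matrix (Fin r') (Fin r') S).submatrix emb id
  have hE : E * E.transpose = 1 := by
    ext i j
    simp [E, Matrix.mul_apply, Matrix.one_apply, emb, (Fin.castLE_injective h.le).eq_iff]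
  rw [show U * V = (U * E) * (E.transpose * V) by
    rw [Matrix.mul_assoc, ← Matrix.mul_assoc E, hE, Matrix.one_mul], Matrix.det_mul,
    Matrix.det_eq_zero_of_column_eq_zero (A := U * E) ⟨r, h⟩ (fun i => ?_), zero_mul]
  simp only [Matrix.mul_apply, E, Matrix.submatrix_apply, Matrix.one_apply, id]
  refine Finset.sum_eq_zero fun x _ => ?_
  rw [if_neg (fun he => ?_), mul_zero]
  exact absurd (congrArg Fin.val he) (by simp [emb, x.2.ne])

/-- A matrix with a left inverse has an invertible maximal minor over a local ring. -/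
theorem exists_isUnit_det [IsLocalRing S] {n r : ℕ} (U : Matrix (Fin n) (Fin r) S)
    (W : Matrix (Fin r) (Fin n) S) (h : W * U = 1) :
    ∃ f : Fin r → Fin n, IsUnit (U.submatrix f id).det := by
  classical
  have key : (W * U).det =
      ∑ f : Fin r → Fin n, (∏ i, W i (f i)) * (U.submatrix f id).det := by
    have e : (W * U : Matrix (Fin r) (Fin r) S) = fun i => ∑ j : Fin n, W i j • U j := by
      ext i k
      simp [Matrix.mul_apply, Finset.sum_apply]
    show Matrix.detRowAlternating (W * U) = _
    rw [e]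
    refine (Matrix.detRowAlternating (R := S) (n := Fin r)).toMultilinearMap.map_sum _ |>.trans ?_
    refine Finset.sum_congr rfl fun f _ => ?_
    exact (MultilinearMap.map_smul_univ _ (fun i => W i (f i)) fun i => U (f i)).trans rfl
  by_contra hf
  simp only [not_exists] at hf
  have : (1 : S) ∈ IsLocalRing.maximalIdeal S := by
    rw [← Matrix.det_one (n := Fin r), ← h, key]
    exact Ideal.sum_mem _ fun f _ => Ideal.mul_mem_left _ _
      ((IsLocalRing.mem_maximalIdeal _).2 (hf f))
  exact (IsLocalRing.maximalIdeal.isMaximal S).ne_top ((Ideal.eq_top_iff_one _).2 this)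

theorem hasSplitRank_of_factor [IsLocalRing S] {a b r : ℕ} (M : Matrix (Fin a) (Fin b) S)
    (U : Matrix (Fin a) (Fin r) S) (W : Matrix (Fin r) (Fin a) S) (V : Matrix (Fin r) (Fin b) S)
    (Z : Matrix (Fin b) (Fin r) S) (hM : M = U * V) (hWU : W * U = 1) (hVZ : V * Z = 1) :
    HasSplitRank M r := by
  constructor
  · obtain ⟨f, hf⟩ := exists_isUnit_det U W hWU
    obtain ⟨g, hg⟩ := exists_isUnit_det V.transpose Z.transpose (by
      rw [← Matrix.transpose_mul, hVZ, Matrix.transpose_one])
    rw [← Matrix.transpose_submatrix, Matrix.det_transpose] at hg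
    refine Ideal.eq_top_of_isUnit_mem _ (Ideal.subset_span ⟨(f, g), rfl⟩) ?_
    subst hM
    show IsUnit ((U * V).submatrix f g).det
    rw [Matrix.submatrix_mul U V f id g Function.bijective_id, Matrix.det_mul]
    exact hf.mul hg
  · intro r' hr
    rw [eq_bot_iff, CAlgX.minorIdeal, Ideal.span_le]
    rintro _ ⟨⟨f, g⟩, rfl⟩
    subst hM
    show ((U * V).submatrix f g).det ∈ (⊥ : Ideal S)
    rw [Matrix.submatrix_mul U V f id g Function.bijective_id, det_mul_eq_zero hr]
    exact Submodule.zero_mem _

section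

variable [IsLocalRing S] [IsNoetherianRing S]
variable {e : ℕ} {n : ℕ → ℕ} (A : (i : ℕ) → Matrix (Fin (n i)) (Fin (n (i + 1))) S)

/-- The image of the `l`-th matrix. -/
abbrev Im (l : ℕ) : Submodule S (Fin (n l) → S) := LinearMap.range (A l).mulVecLin

/-- The cokernel of the `l`-th matrix. -/
abbrev Cok (l : ℕ) : Type u := (Fin (n l) → S) ⧸ Im A l

variable (htop : A e = 0) (hAA : ∀ i, A i * A (i + 1) = 0)
  (hex : ∀ i, i < e → ∀ z, A i *ᵥ z = 0 → ∃ v, A (i + 1) *ᵥ v = z)

include hAA hex in
theorem ker_eq_im {l : ℕ} (hl : l < e) : LinearMap.ker (A l).mulVecLin = Im A (l + 1) := by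
  refine le_antisymm (fun z hz => ?_) ?_
  · obtain ⟨v, hv⟩ := hex l hl z hz
    exact ⟨v, hv⟩
  · rintro z ⟨v, rfl⟩
    simp [LinearMap.mem_ker, Matrix.mulVec_mulVec, hAA l]

include hAA hex in
theorem pdLE_cok_step {l : ℕ} (hl : l < e) (m : ℕ) :
    PdLE S (m + 1) (Cok A l) ↔ PdLE S m (Cok A (l + 1)) := by
  rw [pdLE_succ_iff (Im A l).mkQ (Submodule.mkQ_surjective _)]
  have eq : Cok A (l + 1) ≃ₗ[S] LinearMap.ker (Im A l).mkQ :=
    (Submodule.quotEquivOfEq _ _ (ker_eq_im A hAA hex hl).symm).trans
      ((A l).mulVecLin.quotKerEquivRange.trans (LinearEquiv.ofEq _ _ (Submodule.ker_mkQ _).symm))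
  exact ⟨pdLE_of_equiv eq.symm, pdLE_of_equiv eq⟩

include htop in
theorem projective_cok_top : Module.Projective S (Cok A e) := by
  refine Module.Projective.of_equiv (Submodule.quotEquivOfEqBot _ ?_).symm
  simp [Im, htop]

include htop hAA hex in
theorem pdLE_cok : ∀ m l, e = l + m → PdLE S m (Cok A l) := by
  intro m
  induction m with
  | zero =>
    intro l hl
    obtain rfl : l = e := by omega
    exact pdLE_zero_iff.2 (projective_cok_top A htop)
  | succ m ih => exact fun l hl => (pdLE_cok_step A hAA hex (by omega) m).2 (ih (l + 1) (by omega))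

include htop hAA hex in
theorem projective_cok {k : ℕ} (hk : LocCoh.depth S S ≤ k) :
    ∀ l, k ≤ l → l ≤ e → Module.Projective S (Cok A l) := by
  classical
  intro l hkl hle
  have h0 : PdLE S k (Cok A 0) := by
    rcases subsingleton_or_nontrivial (Cok A 0) with hs | hs
    · exact pdLE_of_projective k
    have hfin : ∃ d, PdLE S d (Cok A 0) := ⟨e, pdLE_cok A htop hAA hex e 0 (by omega)⟩
    have hab := CAlgOdd.AB.depth_add_eq (Nat.find hfin) (Cok A 0) (Nat.find_spec hfin)
      fun e' he' => Nat.find_min hfin he'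
    refine pdLE_mono ?_ (Nat.find_spec hfin)
    have h1 : ((Nat.find hfin : ℕ) : ℕ∞) ≤ (k : ℕ∞) := (le_add_self.trans hab.le).trans hk
    exact_mod_cast h1
  have h1 : ∀ j m, j + m = l → PdLE S m (Cok A j) := by
    intro j
    induction j with
    | zero => exact fun m hm => pdLE_mono (by omega) h0
    | succ j ih =>
      exact fun m hm => (pdLE_cok_step A hAA hex (by omega) m).1 (ih (m + 1) (by omega))
  exact pdLE_zero_iff.1 (h1 l 0 rfl)

include htop hAA hex in
/-- The ranks of an exact complex of free modules over a local ring of depth at most `k`. -/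
theorem splitRank {k : ℕ} (hk : LocCoh.depth S S ≤ k) : ∀ l, k ≤ l → l < e →
    HasSplitRank (A l) (Module.finrank S (Im A l)) ∧
      n (l + 1) = Module.finrank S (Im A (l + 1)) + Module.finrank S (Im A l) := by
  intro l hkl hle
  haveI : Module.Projective S (Cok A l) := projective_cok A htop hAA hex hk l hkl hle.le
  haveI : Module.Projective S (Cok A (l + 1)) := projective_cok A htop hAA hex hk (l + 1) (by omega) hle
  have hproj : ∀ (j : ℕ), Module.Projective S (Cok A j) →
      ∃ p : (Fin (n j) → S) →ₗ[S] Im A j, p ∘ₗ (Im A j).subtype = LinearMap.id := by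
    intro j hj
    obtain ⟨s, hs⟩ := Module.projective_lifting_property (Im A j).mkQ LinearMap.id
      (Submodule.mkQ_surjective _)
    refine ⟨LinearMap.codRestrict (Im A j) (LinearMap.id - s ∘ₗ (Im A j).mkQ) fun x => ?_, ?_⟩
    · rw [← Submodule.Quotient.mk_eq_zero (Im A j), LinearMap.sub_apply, Submodule.Quotient.mk_sub]
      exact sub_eq_zero.2 (LinearMap.congr_fun hs _).symm
    · refine LinearMap.ext fun x => Subtype.ext ?_
      show (x : Fin (n j) → S) - s (Submodule.Quotient.mk (x : Fin (n j) → S)) = x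
      rw [(Submodule.Quotient.mk_eq_zero _).2 x.2, map_zero, sub_zero]
  obtain ⟨p, hp⟩ := hproj l ‹_›
  obtain ⟨p', hp'⟩ := hproj (l + 1) ‹_›
  haveI : Module.Projective S (Im A l) := Module.Projective.of_split _ p hp
  haveI : Module.Free S (Im A l) := Module.free_of_flat_of_isLocalRing
  haveI : Module.Projective S (Im A (l + 1)) := Module.Projective.of_split _ p' hp'
  haveI : Module.Free S (Im A (l + 1)) := Module.free_of_flat_of_isLocalRing
  let φ := (A l).mulVecLin.rangeRestrict
  obtain ⟨σ, hσ⟩ := Module.projective_lifting_property φ LinearMap.id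
    (LinearMap.surjective_rangeRestrict _)
  constructor
  · let β := (Module.finBasis S (Im A l)).equivFun
    refine hasSplitRank_of_factor (A l)
      (LinearMap.toMatrix' ((Im A l).subtype ∘ₗ β.symm.toLinearMap))
      (LinearMap.toMatrix' (β.toLinearMap ∘ₗ p))
      (LinearMap.toMatrix' (β.toLinearMap ∘ₗ φ))
      (LinearMap.toMatrix' (σ ∘ₗ β.symm.toLinearMap)) ?_ ?_ ?_
    · rw [← LinearMap.toMatrix'_comp]
      conv_lhs => rw [← LinearMap.toMatrix'_toLin' (A l)]
      congr 1
      refine LinearMap.ext fun x => ?_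
      simp [φ, Matrix.toLin'_apply']
    · rw [← LinearMap.toMatrix'_comp, ← LinearMap.toMatrix'_id]
      congr 1
      refine LinearMap.ext fun x => ?_
      simp only [LinearMap.comp_apply, LinearEquiv.coe_coe]
      rw [show p ((Im A l).subtype (β.symm x)) = β.symm x from LinearMap.congr_fun hp _]
      simp
    · rw [← LinearMap.toMatrix'_comp, ← LinearMap.toMatrix'_id]
      congr 1
      refine LinearMap.ext fun x => ?_
      simp only [LinearMap.comp_apply, LinearEquiv.coe_coe]
      rw [show φ (σ (β.symm x)) = β.symm x from LinearMap.congr_fun hσ _]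
      simp
  · have hE : Function.Exact (Im A (l + 1)).subtype φ := fun z => by
      refine ⟨fun hz => ⟨⟨z, ?_⟩, rfl⟩, ?_⟩
      · rw [← ker_eq_im A hAA hex hle]
        exact congrArg Subtype.val hz
      · rintro ⟨x, rfl⟩
        refine Subtype.ext ?_
        show (A l).mulVecLin (x : Fin (n (l + 1)) → S) = 0
        rw [← LinearMap.mem_ker, ker_eq_im A hAA hex hle]
        exact x.2
    obtain ⟨eqv, -⟩ := hE.splitSurjectiveEquiv Subtype.val_injective ⟨σ, hσ⟩
    rw [← Module.finrank_prod, ← eqv.finrank_eq, Module.finrank_pi, Fintype.card_fin]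

end

end Groth.Agent.AuditBE
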